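import Groth.Agent.SiteBase.DLim.Acyclic
import Groth.Agent.SiteBase.DLim.Top
import Groth.Agent.SiteBase.KInjSections
import Groth.Agent.SiteBase.KInjAdj
import Groth.Agent.SiteBase.Top
import Groth.Agent.TriCat.KInjRes
import Groth.Prelude.Def_CohCx

/-!
# Objects without negative cohomology over a basis
-/

set_option autoImplicit false
set_option backward.isDefEq.respectTransparency false
set_option backward.isDefEq.respectTransparency.types false

universe u

open CategoryTheory CategoryTheory.Limits Opposite TopologicalSpace DerivedCategory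

noncomputable section

namespace Groth.Agent.NegVanish

open Groth.Agent.SiteBase Groth.Agent.DLim

section Site

variable {C : Type u} [SmallCategory C] {J : GrothendieckTopology C}
  [HasDerivedCategory.{u} (Sheaf J AddCommGrpCat.{u})]

/-- Negative hypercohomology vanishing on a covering class of objects gives `≥ 0`. -/
theorem isGE_of_isCoveredBy (L : DerivedCategory (Sheaf J AddCommGrpCat.{u})) {B : Set C}
    (hB : IsCoveredBy J B) (h : ∀ V ∈ B, ∀ i : ℤ, i < 0 → Subsingleton (CohCx.HDU L i V)) :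
    L.IsGE 0 := by
  refine (isGE_iff _ _).2 fun i hi => ?_
  show IsZero (CohCx.HD L i)
  rw [IsZero.iff_id_eq_zero]
  refine CategoryTheory.Sheaf.hom_ext (NatTrans.ext (funext fun U => AddCommGrpCat.hom_ext
    (AddMonoidHom.ext fun (s : (CohCx.HD L i).obj.obj U) => ?_)))
  show s = (0 : (CohCx.HD L i).obj.obj U)
  obtain ⟨R, hR, hlift⟩ := exists_cover_cls_lift L i U.unop s
  obtain ⟨ι, W, g, hgR, hcov, hWB⟩ := hB.refine_cover U.unop hR
  refine sections_separated (CohCx.HD L i) hcov _ _ ?_
  rintro V f ⟨Z, a, b, ⟨k⟩, rfl⟩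
  obtain ⟨x, hx⟩ := hlift (W k) (g k) (hgR k)
  haveI := h (W k) (hWB k) i hi
  have hx0 : ((CohCx.HD L i).obj.map (g k).op).hom s = 0 := by
    rw [← hx, Subsingleton.elim x 0, map_zero]
  rw [op_comp, Functor.map_comp, map_zero]
  exact (congrArg ((CohCx.HD L i).obj.map a.op).hom hx0).trans (map_zero _)

/-- For an object in degrees `≥ 0` the presheaf `H^0` is a sheaf. -/
theorem isSheaf_HDUPresheaf_zero (L : DerivedCategory (Sheaf J AddCommGrpCat.{u})) [L.IsGE 0] :
    Presheaf.IsSheaf J (CohCx.HDUPresheaf L 0) := by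
  haveI : ∀ U, IsIso ((toHD L 0).app U) := fun U =>
    (ConcreteCategory.isIso_iff_bijective _).2 (cls_bijective_of_isGE L 0 U.unop)
  haveI : IsIso (toHD L 0) := NatIso.isIso_of_isIso_app _
  exact (Presheaf.isSheaf_of_iso_iff (asIso (toHD L 0))).2 (CohCx.HD L 0).property

end Site

section Top

variable {X Y : TopCat.{u}} (f : X ⟶ Y) [HasDerivedCategory.{u} (CohTop.Ab X)]
  [HasDerivedCategory.{u} (CohTop.Ab Y)]

/-- Direct image of a K-injective complex computes hypercohomology of preimages. -/
theorem exists_pushModel (K : DerivedCategory (CohTop.Ab X)) :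
    ∃ L : DerivedCategory (CohTop.Ab Y), ∀ i : ℤ,
      Nonempty (CohCx.HDUPresheaf L i ≅ (Opens.map f).op ⋙ CohCx.HDUPresheaf K i) := by
  obtain ⟨I, s, hI, hs, -, -⟩ :=
    Groth.Agent.TriCat.exists_kInjective_resolution'.{u} (DerivedCategory.Q.objPreimage K)
  haveI := hI
  haveI := hs
  let e : DerivedCategory.Q.obj I ≅ K :=
    (asIso (DerivedCategory.Q.map s)).symm ≪≫ DerivedCategory.Q.objObjPreimageIso K
  let adj : CohTop.pull f ⊣ CohTop.push f :=
    TopCat.Sheaf.pullbackPushforwardAdjunction AddCommGrpCat.{u} f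
  haveI : (CohTop.pull f).Additive := adj.left_adjoint_additive
  haveI : PreservesColimitsOfSize.{0, 0} (CohTop.pull f) := adj.leftAdjoint_preservesColimits
  haveI : PreservesFiniteColimits (CohTop.pull f) := ⟨fun _ => inferInstance⟩
  let J := ((CohTop.push f).mapHomologicalComplex (ComplexShape.up ℤ)).obj I
  haveI : CochainComplex.IsKInjective J := isKInjective_map adj I
  refine ⟨DerivedCategory.Q.obj J, fun i => ?_⟩
  let W := (Functor.whiskeringLeft (Opens Y)ᵒᵖ (Opens X)ᵒᵖ AddCommGrpCat.{u}).obj (Opens.map f).op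
  haveI : W.Additive := { }
  haveI : PreservesFiniteLimits W := inferInstance
  haveI : PreservesFiniteColimits W := inferInstance
  haveI : W.PreservesHomology := inferInstance
  let e₁ : (KInjSections.preCx J).homology i ≅ W.obj ((KInjSections.preCx I).homology i) :=
    ((KInjSections.preCx I).sc i).mapHomologyIso W
  exact ⟨(KInjSections.iso J i).symm ≪≫ e₁ ≪≫ W.mapIso (KInjSections.iso I i ≪≫
    Functor.isoWhiskerLeft _ (preadditiveYoneda.mapIso ((shiftFunctor _ i).mapIso e)))⟩

/-- Negative vanishing over a basis, along a continuous map. -/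
theorem main (B : Set (Opens Y)) (hB : Opens.IsBasis B) (K : DerivedCategory (CohTop.Ab X))
    (h : ∀ V ∈ B, ∀ i : ℤ, i < 0 → Subsingleton (CohCx.HDU K i ((Opens.map f).obj V))) :
    (∀ (V : Opens Y) (i : ℤ), i < 0 → Subsingleton (CohCx.HDU K i ((Opens.map f).obj V))) ∧
    Presheaf.IsSheaf (Opens.grothendieckTopology Y) ((Opens.map f).op ⋙ CohCx.HDUPresheaf K 0) := by
  obtain ⟨L, hL⟩ := exists_pushModel f K
  have he : ∀ (i : ℤ) (V : Opens Y), (CohCx.HDU L i V) ≃ CohCx.HDU K i ((Opens.map f).obj V) :=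
    fun i V => ((hL i).some.app (op V)).addCommGroupIsoToAddEquiv.toEquiv
  haveI : L.IsGE 0 := isGE_of_isCoveredBy L (isCoveredBy_of_isBasis hB)
    fun V hV i hi => (he i V).subsingleton_congr.2 (h V hV i hi)
  exact ⟨fun V i hi => (he i V).subsingleton_congr.1 (subsingleton_HDU_of_isGE L 0 i hi V),
    (Presheaf.isSheaf_of_iso_iff (hL 0).some).1 (isSheaf_HDUPresheaf_zero L)⟩

end Top

end Groth.Agent.NegVanish

end
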